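import Groth.Prelude.Def_FibClv

/-!
Elementary properties of cleavages: comparison morphisms, inverse images along isomorphisms.
-/

set_option autoImplicit false
set_option backward.isDefEq.respectTransparency false
set_option backward.isDefEq.respectTransparency.types false
set_option linter.style.haveILetI false
universe v₁ v₂ v₃ u₁ u₂ u₃

namespace Groth.Agent.FibClvLib

open CategoryTheory CategoryTheory.Functor

variable {𝒮 : Type u₁} {𝒳 : Type u₂} [Category.{v₁} 𝒮] [Category.{v₂} 𝒳] {p : 𝒳 ⥤ 𝒮}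
variable (K : FibCat.Cleavage p)

lemma isIso_fiber {S : 𝒮} {a b : p.Fiber S} (φ : a ⟶ b) [IsIso (Fiber.fiberInclusion.map φ)] :
    IsIso φ := by
  let inner := inv (Fiber.fiberInclusion.map φ)
  haveI : p.IsHomLift (𝟙 S) inner :=
    IsHomLift.lift_id_inv_isIso p S (Fiber.fiberInclusion.map φ)
  let ψ : b ⟶ a := ⟨inner, inferInstance⟩
  exact ⟨ψ, Fiber.hom_ext (IsIso.hom_inv_id (Fiber.fiberInclusion.map φ)),
    Fiber.hom_ext (IsIso.inv_hom_id (Fiber.fiberInclusion.map φ))⟩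

lemma congr_app_fac {R S : 𝒮} {f f' : R ⟶ S} (h : f = f') (a : p.Fiber S) :
    Fiber.fiberInclusion.map ((K.inverseImageCongr h).hom.app a) ≫ K.lift a.2 f' = K.lift a.2 f := by
  subst h
  exact Category.id_comp _

lemma map_fac {R S : 𝒮} (f : R ⟶ S) {a b : p.Fiber S} (φ : a ⟶ b) :
    Fiber.fiberInclusion.map ((K.inverseImage f).map φ) ≫ K.lift b.2 f =
      K.lift a.2 f ≫ Fiber.fiberInclusion.map φ :=
  IsCartesian.fac p f (K.lift b.2 f) (K.lift a.2 f ≫ Fiber.fiberInclusion.map φ)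

lemma comp_fac {R S T : 𝒮} (f : T ⟶ S) (g : R ⟶ T) (a : p.Fiber S) :
    Fiber.fiberInclusion.map ((K.comp f g).app a) ≫ K.lift a.2 (g ≫ f) =
      K.lift (K.obj_proj a.2 f) g ≫ K.lift a.2 f :=
  IsCartesian.fac p (g ≫ f) (K.lift a.2 (g ≫ f)) (K.lift (K.obj_proj a.2 f) g ≫ K.lift a.2 f)

lemma hom_ext_lift {R S : 𝒮} (f : R ⟶ S) (a : p.Fiber S) {b : p.Fiber R}
    {φ ψ : b ⟶ (K.inverseImage f).obj a}
    (h : Fiber.fiberInclusion.map φ ≫ K.lift a.2 f = Fiber.fiberInclusion.map ψ ≫ K.lift a.2 f) :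
    φ = ψ := by
  apply Fiber.hom_ext
  haveI : p.IsHomLift (𝟙 R) (Fiber.fiberInclusion.map φ) := φ.2
  haveI : p.IsHomLift (𝟙 R) (Fiber.fiberInclusion.map ψ) := ψ.2
  exact IsCartesian.ext p f (K.lift a.2 f) (Fiber.fiberInclusion.map φ) (Fiber.fiberInclusion.map ψ) h

lemma isIso_comp_app [p.IsFibered] {R S T : 𝒮} (f : T ⟶ S) (g : R ⟶ T) (a : p.Fiber S) :
    IsIso ((K.comp f g).app a) := by
  haveI : IsIso (Fiber.fiberInclusion.map ((K.comp f g).app a)) :=
    (IsCartesian.domainUniqueUpToIso p (g ≫ f) (K.lift a.2 (g ≫ f))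
      (K.lift (K.obj_proj a.2 f) g ≫ K.lift a.2 f)).isIso_hom
  exact isIso_fiber _

lemma isIso_lift_id {S : 𝒮} (a : p.Fiber S) : IsIso (K.lift a.2 (𝟙 S)) := by
  haveI : p.IsHomLift (𝟙 S) (𝟙 a.1) := IsHomLift.id a.2
  haveI : p.IsStronglyCartesian (𝟙 S) (𝟙 a.1) := IsStronglyCartesian.of_isIso p (𝟙 S) (𝟙 a.1)
  let e := IsCartesian.domainUniqueUpToIso p (𝟙 S) (𝟙 a.1) (K.lift a.2 (𝟙 S))
  have h : e.hom ≫ 𝟙 a.1 = K.lift a.2 (𝟙 S) := IsCartesian.fac p (𝟙 S) (𝟙 a.1) (K.lift a.2 (𝟙 S))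
  rw [Category.comp_id] at h
  rw [← h]
  infer_instance

/-- `(𝟙 S)^*` is isomorphic to the identity. -/
noncomputable def idIso (S : 𝒮) : K.inverseImage (𝟙 S) ≅ 𝟭 (p.Fiber S) :=
  NatIso.ofComponents
    (fun a =>
      haveI := isIso_lift_id K a
      let φ : (K.inverseImage (𝟙 S)).obj a ⟶ a := ⟨K.lift a.2 (𝟙 S), (K.isCartesian a.2 (𝟙 S)).toIsHomLift⟩
      haveI : IsIso (Fiber.fiberInclusion.map φ) := isIso_lift_id K a
      haveI : IsIso φ := isIso_fiber φ
      asIso φ)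
    (fun {a b} φ => Fiber.hom_ext (by
      rw [Functor.map_comp, Functor.map_comp]
      exact map_fac K (𝟙 S) φ))

theorem isEquivalence_inverseImage [p.IsFibered] {S T : 𝒮} (f : T ⟶ S) [IsIso f] :
    (K.inverseImage f).IsEquivalence := by
  haveI : IsIso (K.comp f (inv f)) :=
    haveI := fun a => isIso_comp_app K f (inv f) a
    NatIso.isIso_of_isIso_app _
  haveI : IsIso (K.comp (inv f) f) :=
    haveI := fun a => isIso_comp_app K (inv f) f a
    NatIso.isIso_of_isIso_app _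
  exact (CategoryTheory.Equivalence.mk (K.inverseImage f) (K.inverseImage (inv f))
    (asIso (K.comp f (inv f)) ≪≫ K.inverseImageCongr (IsIso.inv_hom_id f) ≪≫ idIso K S).symm
    (asIso (K.comp (inv f) f) ≪≫ K.inverseImageCongr (IsIso.hom_inv_id f) ≪≫ idIso K T)).isEquivalence_functor

theorem isFibered_iff : p.IsFibered ↔ ∀ (R S T : 𝒮) (f : T ⟶ S) (g : R ⟶ T), IsIso (K.comp f g) := by
  constructor
  · intro h R S T f g
    haveI := fun a => isIso_comp_app K f g a
    exact NatIso.isIso_of_isIso_app _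
  · intro h
    haveI := K.isPreFibered
    exact
      { comp := fun {R S T} g f {a b c} ψ φ _ _ => by
          -- compare `φ` and `ψ` with chosen lifts
          have hc : p.obj c = T := IsHomLift.codomain_eq p f φ
          let θ := IsCartesian.domainUniqueUpToIso p f (K.lift hc f) φ
          have hθ : θ.hom ≫ K.lift hc f = φ := IsCartesian.fac p f (K.lift hc f) φ
          haveI : p.IsCartesian g (ψ ≫ θ.hom) := inferInstance
          let θ' := IsCartesian.domainUniqueUpToIso p g (K.lift (K.obj_proj hc f) g) (ψ ≫ θ.hom)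
          have hθ' : θ'.hom ≫ K.lift (K.obj_proj hc f) g = ψ ≫ θ.hom :=
            IsCartesian.fac p g (K.lift (K.obj_proj hc f) g) (ψ ≫ θ.hom)
          let x : p.Fiber T := ⟨c, hc⟩
          haveI := h R T S f g
          haveI : p.IsHomLift (𝟙 R) (Fiber.fiberInclusion.map ((K.comp f g).app x)) := ((K.comp f g).app x).2
          let w : a ≅ K.obj hc (g ≫ f) :=
            θ' ≪≫ asIso (Fiber.fiberInclusion.map ((K.comp f g).app x))
          haveI : p.IsHomLift (𝟙 R) w.hom :=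
            inferInstanceAs (p.IsHomLift (𝟙 R) (θ'.hom ≫ Fiber.fiberInclusion.map ((K.comp f g).app x)))
          have hw : w.hom ≫ K.lift hc (g ≫ f) = ψ ≫ φ := by
            have h1 : Fiber.fiberInclusion.map ((K.comp f g).app x) ≫ K.lift hc (g ≫ f) =
                K.lift (K.obj_proj hc f) g ≫ K.lift hc f := comp_fac K f g x
            rw [← hθ, ← Category.assoc ψ, ← hθ', Category.assoc θ'.hom, ← h1, ← Category.assoc]
            rfl
          rw [← hw]
          infer_instance }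

theorem comp_id_right {S T : 𝒮} (f : T ⟶ S) (a : p.Fiber S) :
    Fiber.fiberInclusion.map ((K.comp f (𝟙 T)).app a ≫ (K.inverseImageCongr (Category.id_comp f)).hom.app a) =
      (K.transport (𝟙 T)).app ((K.inverseImage f).obj a) := by
  rw [Functor.map_comp]
  show _ = K.lift (K.obj_proj a.2 f) (𝟙 T)
  haveI : p.IsHomLift (𝟙 T) (Fiber.fiberInclusion.map ((K.comp f (𝟙 T)).app a)) := ((K.comp f (𝟙 T)).app a).2
  haveI : p.IsHomLift (𝟙 T)
      (Fiber.fiberInclusion.map ((K.inverseImageCongr (Category.id_comp f)).hom.app a)) :=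
    ((K.inverseImageCongr (Category.id_comp f)).hom.app a).2
  apply IsCartesian.ext p f (K.lift a.2 f)
  rw [Category.assoc]
  exact (congrArg (_ ≫ ·) (congr_app_fac K (Category.id_comp f) a)).trans (comp_fac K f (𝟙 T) a)

theorem comp_id_left {S T : 𝒮} (f : T ⟶ S) (a : p.Fiber S) :
    (K.comp (𝟙 S) f).app a ≫ (K.inverseImageCongr (Category.comp_id f)).hom.app a =
      (K.inverseImage f).map (Fiber.homMk p S (K.lift a.2 (𝟙 S))) := by
  apply hom_ext_lift K f a
  rw [Functor.map_comp, Category.assoc]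
  exact ((congrArg (_ ≫ ·) (congr_app_fac K (Category.comp_id f) a)).trans (comp_fac K (𝟙 S) f a)).trans
    (map_fac K f (Fiber.homMk p S (K.lift a.2 (𝟙 S)))).symm

theorem pentagon {S T U V : 𝒮} (f : T ⟶ S) (g : U ⟶ T) (h : V ⟶ U) :
    Functor.whiskerLeft (K.inverseImage f) (K.comp g h) ≫ K.comp f (h ≫ g) ≫
        (K.inverseImageCongr (Category.assoc h g f)).hom =
      Functor.whiskerRight (K.comp f g) (K.inverseImage h) ≫ K.comp (g ≫ f) h := by
  refine NatTrans.ext (funext fun a => hom_ext_lift K (h ≫ g ≫ f) a ?_)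
  simp only [NatTrans.comp_app, Functor.whiskerLeft_app, Functor.whiskerRight_app, Functor.map_comp,
    Category.assoc]
  rw [congr_app_fac K (Category.assoc h g f) a, comp_fac K f (h ≫ g) a, comp_fac K (g ≫ f) h a]
  have h1 := comp_fac K g h ((K.inverseImage f).obj a)
  have h2 := map_fac K h ((K.comp f g).app a)
  calc Fiber.fiberInclusion.map ((K.comp g h).app ((K.inverseImage f).obj a)) ≫
        K.lift (K.obj_proj a.2 f) (h ≫ g) ≫ K.lift a.2 f
      = (K.lift (K.obj_proj (K.obj_proj a.2 f) g) h ≫ K.lift (K.obj_proj a.2 f) g) ≫ K.lift a.2 f := by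
        rw [← Category.assoc]; exact congrArg (· ≫ K.lift a.2 f) h1
    _ = K.lift (K.obj_proj (K.obj_proj a.2 f) g) h ≫
          (K.lift (K.obj_proj a.2 f) g ≫ K.lift a.2 f) := Category.assoc _ _ _
    _ = (K.lift (K.obj_proj (K.obj_proj a.2 f) g) h ≫ Fiber.fiberInclusion.map ((K.comp f g).app a)) ≫
          K.lift a.2 (g ≫ f) := by
        rw [Category.assoc]; exact congrArg (_ ≫ ·) (comp_fac K f g a).symm
    _ = _ := by
        rw [← Category.assoc]; exact congrArg (· ≫ K.lift a.2 (g ≫ f)) h2.symm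

theorem existsUnique_natTrans {C : Type u₃} [Category.{v₃} C] (F G : 𝒳 ⥤ C)
    (u : ∀ S : 𝒮, (Fiber.fiberInclusion ⋙ F : p.Fiber S ⥤ C) ⟶ Fiber.fiberInclusion ⋙ G)
    (hu : ∀ ⦃T S : 𝒮⦄ (f : T ⟶ S) (a : p.Fiber S),
      F.map ((K.transport f).app a) ≫ (u S).app a =
        (u T).app ((K.inverseImage f).obj a) ≫ G.map ((K.transport f).app a)) :
    ∃! v : F ⟶ G, ∀ (S : 𝒮) (a : p.Fiber S), v.app a.1 = (u S).app a := by
  have hcons : ∀ (S : 𝒮) (a : p.Fiber S), (u (p.obj a.1)).app ⟨a.1, rfl⟩ = (u S).app a := by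
    rintro S ⟨a, ha⟩
    subst ha
    rfl
  refine ⟨⟨fun x => (u (p.obj x)).app ⟨x, rfl⟩, fun x y φ => ?_⟩, fun S a => hcons S a, fun v hv => ?_⟩
  · let f := p.map φ
    let b : p.Fiber (p.obj y) := ⟨y, rfl⟩
    let a : p.Fiber (p.obj x) := ⟨x, rfl⟩
    let θ : a ⟶ (K.inverseImage f).obj b :=
      ⟨IsCartesian.map p f (K.lift b.2 f) φ, inferInstance⟩
    have hθ : Fiber.fiberInclusion.map θ ≫ K.lift b.2 f = φ := IsCartesian.fac p f (K.lift b.2 f) φ
    have h1 := (u (p.obj x)).naturality θ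
    have h2 := hu f b
    simp only [Functor.comp_map] at h1
    conv_lhs => rw [← hθ]
    conv_rhs => rw [← hθ]
    erw [Functor.map_comp, Functor.map_comp, Category.assoc, h2, ← Category.assoc, h1, Category.assoc]
    rfl
  · ext x
    exact hv (p.obj x) ⟨x, rfl⟩

end Groth.Agent.FibClvLib
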