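import Groth.Prelude.Def_FibClv
import Mathlib.CategoryTheory.Bicategory.Functor.LocallyDiscrete
import Mathlib.CategoryTheory.Category.Cat
import Mathlib.CategoryTheory.EqToHom

/-!
A category isomorphic over the base to the category of elements of a strict functor has a splitting.
-/

set_option autoImplicit false
set_option backward.isDefEq.respectTransparency false
set_option backward.isDefEq.respectTransparency.types false
set_option linter.style.haveILetI false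
universe v₁ v₂ u₁ u₂

namespace Groth.Agent.FibClvLib

open CategoryTheory CategoryTheory.Functor Opposite

variable {𝒮 : Type u₁} [Category.{v₁} 𝒮] (F : 𝒮ᵒᵖ ⥤ Cat.{v₂, u₂})

/-- The category of elements. -/
abbrev Elts : Type (max u₁ u₂) := Pseudofunctor.CoGrothendieck F.toPseudofunctor'

/-- The fibre component is an identification. -/
def EqFib {X Y : (Elts F)} (m : X ⟶ Y) : Prop := ∃ h, m.fiber = eqToHom h

lemma mapId_inv_app (S : 𝒮) (x : (F.toPseudofunctor'.obj ⟨op S⟩ : Cat.{v₂, u₂})) :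
    ∃ h, (F.toPseudofunctor'.mapId ⟨op S⟩).inv.toNatTrans.app x = eqToHom h :=
  ⟨_, Cat.eqToHom_app _ _ (F.map_id (op S)).symm x⟩

lemma eqFib_id (X : (Elts F)) : EqFib F (𝟙 X) := mapId_inv_app F X.base X.fiber

lemma eqFib_eqToHom {X Y : (Elts F)} (h : X = Y) : EqFib F (eqToHom h) := by
  subst h
  exact eqFib_id F X

lemma eqFib_comp {X Y Z : (Elts F)} {m : X ⟶ Y} {n : Y ⟶ Z} (hm : EqFib F m) (hn : EqFib F n) :
    EqFib F (m ≫ n) := by
  obtain ⟨h, hm⟩ := hm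
  obtain ⟨h', hn⟩ := hn
  have hc : (F.toPseudofunctor'.mapComp n.base.op.toLoc m.base.op.toLoc).inv.toNatTrans.app Z.fiber =
      eqToHom _ := Cat.eqToHom_app _ _ (F.map_comp n.base.op m.base.op).symm Z.fiber
  refine ⟨h.trans ((congrArg (F.toPseudofunctor'.map m.base.op.toLoc).toFunctor.obj h').trans
    (Functor.congr_obj (congrArg (fun k => k.toFunctor) (F.map_comp n.base.op m.base.op)) Z.fiber).symm), ?_⟩
  show m.fiber ≫ (F.toPseudofunctor'.map m.base.op.toLoc).toFunctor.map n.fiber ≫ _ = _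
  rw [hm, hn, hc, eqToHom_map, eqToHom_trans, eqToHom_trans]

lemma eqFib_unique {X X' Y : (Elts F)} {m : X ⟶ Y} {m' : X' ⟶ Y} (hm : EqFib F m) (hm' : EqFib F m')
    (h : X.base = X'.base) (hb : m.base = eqToHom h ≫ m'.base) :
    ∃ h' : X = X', m = eqToHom h' ≫ m' := by
  obtain ⟨R, x⟩ := X
  obtain ⟨R', x'⟩ := X'
  obtain ⟨f, φ⟩ := m
  obtain ⟨f', φ'⟩ := m'
  obtain rfl : R = R' := h
  simp only [eqToHom_refl, Category.id_comp] at hb
  subst hb
  obtain ⟨e, he⟩ := hm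
  obtain ⟨e', he'⟩ := hm'
  obtain rfl : x = x' := e.trans e'.symm
  exact ⟨rfl, by simp only [eqToHom_refl, Category.id_comp]; congr 1; exact he.trans he'.symm⟩

variable {𝒳 : Type u₂} [Category.{v₂} 𝒳] {p : 𝒳 ⥤ 𝒮}
variable (Φ : 𝒳 ⥤ (Elts F)) (Ψ : (Elts F) ⥤ 𝒳) (h₁ : Φ ⋙ Ψ = 𝟭 𝒳) (h₂ : Ψ ⋙ Φ = 𝟭 (Elts F))
variable (h₃ : Φ ⋙ Pseudofunctor.CoGrothendieck.forget F.toPseudofunctor' = p)

include h₁ in
lemma objΦ_inj {a b : 𝒳} (h : Φ.obj a = Φ.obj b) : a = b :=
  (Functor.congr_obj h₁ a).symm.trans ((congrArg Ψ.obj h).trans (Functor.congr_obj h₁ b))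

include h₁ in
lemma faithfulΦ : Φ.Faithful := by
  constructor
  intro a b m m' h
  have h' := congrArg Ψ.map h
  rw [show Ψ.map (Φ.map m) = (Φ ⋙ Ψ).map m from rfl, show Ψ.map (Φ.map m') = (Φ ⋙ Ψ).map m' from rfl,
    Functor.congr_hom h₁ m, Functor.congr_hom h₁ m'] at h'
  exact (cancel_mono _).1 ((cancel_epi _).1 h')

include h₂ in
lemma mapΦΨ {X Y : (Elts F)} (m : X ⟶ Y) : Φ.map (Ψ.map m) =
    eqToHom (Functor.congr_obj h₂ X) ≫ m ≫ eqToHom (Functor.congr_obj h₂ Y).symm :=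
  Functor.congr_hom h₂ m

include h₁ h₂ in
lemma fullΦ : Φ.Full := by
  constructor
  intro a b m
  refine ⟨eqToHom (Functor.congr_obj h₁ a).symm ≫ Ψ.map m ≫ eqToHom (Functor.congr_obj h₁ b), ?_⟩
  simp [mapΦΨ F Φ Ψ h₂, eqToHom_map]

include h₃ in
lemma isHomLift_iff {R S : 𝒮} {a b : 𝒳} (f : R ⟶ S) (φ : a ⟶ b) :
    (Pseudofunctor.CoGrothendieck.forget F.toPseudofunctor').IsHomLift f (Φ.map φ) ↔ p.IsHomLift f φ := by
  subst h₃
  constructor
  · intro h
    let q := Pseudofunctor.CoGrothendieck.forget F.toPseudofunctor'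
    haveI : q.IsHomLift f (Φ.map φ) := h
    exact IsHomLift.of_fac' _ f φ (IsHomLift.domain_eq q f (Φ.map φ))
      (IsHomLift.codomain_eq q f (Φ.map φ)) (IsHomLift.fac' q f (Φ.map φ))
  · intro h
    let q := Pseudofunctor.CoGrothendieck.forget F.toPseudofunctor'
    haveI : (Φ ⋙ q).IsHomLift f φ := h
    exact IsHomLift.of_fac' q f (Φ.map φ) (IsHomLift.domain_eq (Φ ⋙ q) f φ)
      (IsHomLift.codomain_eq (Φ ⋙ q) f φ) (IsHomLift.fac' (Φ ⋙ q) f φ)

include h₁ h₂ h₃ in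
lemma isCartesian_of_map {R S : 𝒮} {a b : 𝒳} (f : R ⟶ S) (φ : a ⟶ b)
    (h : (Pseudofunctor.CoGrothendieck.forget F.toPseudofunctor').IsCartesian f (Φ.map φ)) :
    p.IsCartesian f φ := by
  haveI := faithfulΦ F Φ Ψ h₁
  haveI := fullΦ F Φ Ψ h₁ h₂
  haveI := (isHomLift_iff F Φ h₃ f φ).1 h.toIsHomLift
  constructor
  intro a' ψ hψ
  haveI := (isHomLift_iff F Φ h₃ f ψ).2 hψ
  obtain ⟨χ, ⟨hχ, hc⟩, hu⟩ := h.universal_property (Φ.map ψ)
  refine ⟨Φ.preimage χ, ⟨(isHomLift_iff F Φ h₃ _ _).1 (by rw [Functor.map_preimage]; exact hχ),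
    Φ.map_injective (by simp [hc])⟩, fun χ' ⟨h', hc'⟩ => Φ.map_injective ?_⟩
  rw [Functor.map_preimage]
  exact hu _ ⟨(isHomLift_iff F Φ h₃ _ _).2 h', by rw [← Functor.map_comp, hc']⟩

include h₁ h₂ h₃ in
theorem exists_splitting : ∃ K : FibCat.Cleavage p, K.IsSplitting := by
  let q := Pseudofunctor.CoGrothendieck.forget F.toPseudofunctor'
  have hbase : ∀ a, (Φ.obj a).base = p.obj a := fun a => Functor.congr_obj h₃ a
  have hmap : ∀ {a b : 𝒳} (φ : a ⟶ b),
      (Φ.map φ).base = eqToHom (hbase a) ≫ p.map φ ≫ eqToHom (hbase b).symm := fun φ => by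
    subst h₃
    simp
  let base : ∀ {R S : 𝒮} {a : 𝒳}, p.obj a = S → (R ⟶ S) → (R ⟶ (Φ.obj a).base) :=
    fun {R S a} ha f => f ≫ eqToHom ((hbase a).trans ha).symm
  let L : ∀ {R S : 𝒮} {a : 𝒳} (ha : p.obj a = S) (f : R ⟶ S),
      Ψ.obj (Pseudofunctor.CoGrothendieck.domainCartesianLift (Φ.obj a).fiber (base ha f)) ⟶ a :=
    fun {R S a} ha f => Ψ.map (Pseudofunctor.CoGrothendieck.cartesianLift (Φ.obj a).fiber (base ha f)) ≫
      eqToHom (Functor.congr_obj h₁ a)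
  have hΦL : ∀ {R S : 𝒮} {a : 𝒳} (ha : p.obj a = S) (f : R ⟶ S),
      Φ.map (L ha f) = eqToHom (Functor.congr_obj h₂ _) ≫
        Pseudofunctor.CoGrothendieck.cartesianLift (Φ.obj a).fiber (base ha f) := fun {R S a} ha f => by
    simp [L, mapΦΨ F Φ Ψ h₂, eqToHom_map]
  let K : FibCat.Cleavage p :=
    { obj := fun {R S a} ha f =>
        Ψ.obj (Pseudofunctor.CoGrothendieck.domainCartesianLift (Φ.obj a).fiber (base ha f))
      lift := fun ha f => L ha f
      isCartesian := fun {R S a} ha f => by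
        refine isCartesian_of_map F Φ Ψ h₁ h₂ h₃ f _ ?_
        show q.IsCartesian f (Φ.map (L ha f))
        rw [hΦL ha f]
        haveI := Pseudofunctor.CoGrothendieck.isStronglyCartesian_homCartesianLift (Φ.obj a).fiber (base ha f)
        haveI : q.IsCartesian f (Pseudofunctor.CoGrothendieck.cartesianLift (Φ.obj a).fiber (base ha f)) :=
          FibCat.Cleavage.isCartesian_of_comp_eqToHom (p := q) f ((hbase a).trans ha).symm _
        haveI : q.IsHomLift (𝟙 R) (eqToHom (Functor.congr_obj h₂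
            (Pseudofunctor.CoGrothendieck.domainCartesianLift (Φ.obj a).fiber (base ha f)))) :=
          IsHomLift.eqToHom_codomain_lift_id _ rfl
        let i := eqToIso (Functor.congr_obj h₂
            (Pseudofunctor.CoGrothendieck.domainCartesianLift (Φ.obj a).fiber (base ha f)))
        haveI : q.IsHomLift (𝟙 R) i.hom := this
        exact IsCartesian.of_iso_comp q f _ i }
  have hgood : ∀ {R S : 𝒮} {a : 𝒳} (ha : p.obj a = S) (f : R ⟶ S), EqFib F (Φ.map (K.lift ha f)) := by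
    intro R S a ha f
    show EqFib F (Φ.map (L ha f))
    rw [hΦL ha f]
    exact eqFib_comp F (eqFib_eqToHom F _) ⟨rfl, (eqToHom_refl _ _).symm⟩
  have huniq : ∀ {x x' y : 𝒳} (φ : x ⟶ y) (φ' : x' ⟶ y), EqFib F (Φ.map φ) → EqFib F (Φ.map φ') →
      ∀ h : p.obj x = p.obj x', p.map φ = eqToHom h ≫ p.map φ' →
      ∃ h' : x = x', φ = eqToHom h' ≫ φ' := by
    intro x x' y φ φ' g g' h hφ
    obtain ⟨e, he⟩ := eqFib_unique F g g' ((hbase x).trans (h.trans (hbase x').symm))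
      (by simp [hmap, hφ])
    haveI := faithfulΦ F Φ Ψ h₁
    exact ⟨objΦ_inj F Φ Ψ h₁ e, Φ.map_injective (by rw [he]; simp [eqToHom_map])⟩
  have hpm : ∀ {R S : 𝒮} {a : 𝒳} (ha : p.obj a = S) (f : R ⟶ S),
      p.map (K.lift ha f) = eqToHom (K.obj_proj ha f) ≫ f ≫ eqToHom ha.symm :=
    fun ha f => @IsHomLift.fac' _ _ _ _ p _ _ _ _ f (K.lift ha f) (K.isCartesian ha f).toIsHomLift
  refine ⟨K, fun S a ha => ?_, fun S T U f g a ha => ?_⟩
  · obtain ⟨h, e⟩ := huniq (K.lift ha (𝟙 S)) (𝟙 a) (hgood ha _)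
      (by rw [CategoryTheory.Functor.map_id]; exact eqFib_id F _) ((K.obj_proj ha _).trans ha.symm) (by simp [hpm])
    exact ⟨h, by simpa using e⟩
  · exact huniq (K.lift (K.obj_proj ha f) g ≫ K.lift ha f) (K.lift ha (g ≫ f))
      (by rw [Functor.map_comp]; exact eqFib_comp F (hgood _ _) (hgood _ _)) (hgood _ _)
      ((K.obj_proj _ _).trans (K.obj_proj _ _).symm) (by simp [hpm])

end Groth.Agent.FibClvLib
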